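import Cfsg.Agent.Lib.CosetEnum.G24A8064.Data
import Cfsg.Agent.Lib.CosetEnum.G24P416.Enum
import Cfsg.Agent.Lib.ExactCover.Ker

/-! The sign symmetry of the table: it is enough to check the relators on the even points. -/

set_option autoImplicit false
set_option maxRecDepth 20000

namespace Cfsg.Agent.Lib.CosetEnum.G24A8064

open Cfsg.Agent.Lib.CosetEnum

/-- The relators at the `j`th even point. -/
noncomputable def relEven (j : ℕ) : Bool :=
  relAt G24P416.letters.K table G24P416.letters.RL (2 * j)

/-- The table commutes with the sign change at a point. -/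
noncomputable def symAt (i : ℕ) : Bool :=
  allBelow 8 fun g => Nat.beq (get32 table (Nat.xor i 1 * 8 + g)) (Nat.xor (get32 table (i * 8 + g)) 1) &&
    Nat.blt (get32 table (i * 8 + g)) 8064

theorem perm_ok : permOK G24P416.letters.K G24P416.letters.IV 8064 table = true := by decide +kernel

theorem sym_ok : allBelow 8064 symAt = true := by decide +kernel

theorem scan_sym (l : List ℕ) (hl : ∀ g ∈ l, g < 8) : ∀ i < 8064,
    scan 8 table l (Nat.xor i 1) = Nat.xor (scan 8 table l i) 1 := by
  induction l with
  | nil => intro i _; rfl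
  | cons g l ih =>
    intro i hi
    have h := allBelow_iff.1 (allBelow_iff.1 sym_ok i hi) g (hl g List.mem_cons_self)
    simp only [Bool.and_eq_true, Nat.beq_eq, Nat.blt_eq] at h
    show force (get32 table (Nat.xor i 1 * 8 + g)) (scan 8 table l) =
      Nat.xor (force (get32 table (i * 8 + g)) (scan 8 table l)) 1
    rw [force_eq, force_eq, h.1]
    exact ih (fun x hx => hl x (List.mem_cons_of_mem _ hx)) _ h.2

theorem rel_of_even (h : allBelow 4032 relEven = true) :
    ∀ l ∈ G24P416.letters.RL, ∀ i < 8064, scan G24P416.letters.K table l i = i := by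
  intro l hl i hi
  have heven : ∀ j < 4032, scan G24P416.letters.K table l (2 * j) = 2 * j := fun j hj => by
    have h2 := allBelow_iff.1 h j hj
    unfold relEven relAt at h2
    generalize G24P416.letters.RL = ls at hl h2
    induction ls with
    | nil => simp at hl
    | cons b bs ih =>
      simp only [Bool.and_eq_true, Nat.beq_eq] at h2
      rcases List.mem_cons.1 hl with rfl | hl
      · exact h2.1
      · exact ih hl h2.2
  rcases Nat.even_or_odd' i with ⟨j, rfl | rfl⟩
  · exact heven j (by omega)
  · have hx : 2 * j + 1 = Nat.xor (2 * j) 1 := (Nat.xor_one_of_even (even_two_mul j)).symm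
    have hK : ∀ g ∈ l, g < 8 := (G24P416.letters_ok.2.2.2.1 l hl).1
    rw [hx]
    exact (scan_sym l hK _ (by omega)).trans (congrArg (fun x => Nat.xor x 1) (heven j (by omega)))

end Cfsg.Agent.Lib.CosetEnum.G24A8064
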