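import Cfsg.Agent.Lib.CosetEnum.G24A8064.Part0
import Cfsg.Agent.Lib.CosetEnum.G24A8064.Part1
import Cfsg.Agent.Lib.CosetEnum.G24A8064.Part2
import Cfsg.Agent.Lib.CosetEnum.G24A8064.Part3
import Cfsg.Agent.Lib.CosetEnum.G24A8064.Part4
import Cfsg.Agent.Lib.CosetEnum.G24A8064.Part5

/-! All relators act trivially on the table. -/

set_option autoImplicit false

namespace Cfsg.Agent.Lib.CosetEnum.G24A8064

open Cfsg.Agent.Lib.CosetEnum

theorem even_ok : allBelow 4032 relEven = true :=
  (allBelow_add (allBelow_add (allBelow_add (allBelow_add (allBelow_add (allBelow_add (allBelow_add (allBelow_add (allBelow_add (allBelow_add (allBelow_add (allBelow_add (rfl : allBelow 0 relEven = true) even_part0_0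
    (by omega : 0 + 336 = 336)) even_part0_1
    (by omega : 336 + 336 = 672)) even_part1_0
    (by omega : 672 + 336 = 1008)) even_part1_1
    (by omega : 1008 + 336 = 1344)) even_part2_0
    (by omega : 1344 + 336 = 1680)) even_part2_1
    (by omega : 1680 + 336 = 2016)) even_part3_0
    (by omega : 2016 + 336 = 2352)) even_part3_1
    (by omega : 2352 + 336 = 2688)) even_part4_0
    (by omega : 2688 + 336 = 3024)) even_part4_1
    (by omega : 3024 + 336 = 3360)) even_part5_0
    (by omega : 3360 + 336 = 3696)) even_part5_1
    (by omega : 3696 + 336 = 4032))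

theorem table_ok : TableOK G24P416.letters 8064 table where
  col := G24P416.table_ok.col
  symcol := G24P416.table_ok.symcol
  invol := G24P416.table_ok.invol
  perm := perm_ok
  rel := rel_of_even even_ok

/-- The action on the table. -/
theorem act : Nonempty (Cfsg.Agent.Lib.ExactCover.Act 4 G24P416.relWords 8064 table) :=
  Cfsg.Agent.Lib.ExactCover.exists_act (by omega) G24P416.letters_ok table_ok

end Cfsg.Agent.Lib.CosetEnum.G24A8064
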