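import Cfsg.Agent.Lib.CosetEnum.G24A8064.Base

/-! Relators on a range of the even points of the table. -/

set_option autoImplicit false
set_option maxRecDepth 20000
set_option Elab.async false

namespace Cfsg.Agent.Lib.CosetEnum.G24A8064

open Cfsg.Agent.Lib.CosetEnum

theorem even_part0_0 : allFrom 0 336 relEven = true := by decide +kernel

theorem even_part0_1 : allFrom 336 336 relEven = true := by decide +kernel

end Cfsg.Agent.Lib.CosetEnum.G24A8064
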